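import Cfsg.Agent.J4Rep94.S1.Data

/-!
# Certificate data
-/

set_option autoImplicit false
set_option maxRecDepth 100000

namespace Cfsg.Agent.J4Rep94.S1

open Cfsg.Agent.CosetEnum

def fv0 : ℕ := 0xb50000100091000c1000020004b000030009b0000100097000bf000020004e00004000a1000010009d000bd000020005100005000a700001000a3000bb000020005400004000ad00001000a9000b8000020005700003000af000b700002000ac000a6000a00009a000940008c0008a00088000860008400082000800007e0007c0007a00078000760007400072000700006e0006c0006a00068000660006400062000600005e0005c0005a00058000560005400052000500004e0004c0004a00048000460004400042000400003e0003c0003a0003800036000340003200030000b3000990009f000a5000ab000b10003a000590000200000000ae000a8000a20009c000960009000001000030000500007000090000b0000d0000f00011000130001500017000190001b0001d0001f00021000230002500027000290002b0002d00093000990009f000a5000ab000b1000230005900001000000008e00095000020004b00000000000002e00093000020004a00000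
theorem fok0 : sys.checkFacts 89 9 fv0 = true := by decide +kernel


end Cfsg.Agent.J4Rep94.S1
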