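import Cfsg.Agent.J4Rep94.P7
import Cfsg.Agent.J4Rep94.Orbit

/-!
# Certificate data
-/

set_option autoImplicit false
set_option maxRecDepth 100000

namespace Cfsg.Agent.J4Rep94.S1

open Cfsg.Agent.CosetEnum

def fxL0 : ℕ := 0x6000900000030004b00049180027000260c001440013c6000a8000a43000550005708002c8002c040012c00120200094000300000590005600002c0002a840015c001502000ac000a61000550005200002a00028800014c001400000a40009e2000510004e10002800026880013c0013000009c0009600004d0004a00002600024880012c0011c4000940002e1000490000008002400023800011c0011820008c0008a0000450004410002200021800010c0010820008400082000041000400800200001f80000fc000f840007c0007a00003d0003c08001e0001d80000ec000e8200074000720000390003810001c0001b80000dc000d820006c0006a0000350003408001a0001980000cc000c840006400062000031000300800180001780000bc000b820005c0005a00002d0002c1000160001580000ac000a8200054000520000290002808001400013800009c0009840004c0004a0000250002408001200011800008c0008820004400042000021000201000100000f800007c0007820003c0003a00001d0001c08000e0000d800006c00068400034000320000190001808000c0000b800005c0005820002c0002a0000150001410000a00009800004c00048200024000220000110001008000800007800003c0003840001c0001a00000d0000c08000600005800002c00028200014000120000090000810000400003800001c0001820000c0000a0000050000408000200001800000c000084000040000200000100000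
def fx : PTree := (.leaf fxL0)
def rules0 : DTree Rule := (.node 3 (.node 1 (.leaf ⟨1, [1,1], [], false, 3, 0⟩) (.node 1 (.leaf ⟨1, [0,2,0,1,0,1,0,2,0,1,0,2,0,2,0,1,0,2,0,2,0,1,0,2,0,2,0,1,0,1,0,2,0,1,0], [], false, 8, 10⟩) (.leaf ⟨3, [0,2,0,1,0,2,0,2,0,1,0,1,0,2,0,1,0,1,0,2,0,1,0,1,0,2,0,1,0,1,0,2,0,1,0,1,0,2,0,1,0,1,0,2,0,1,0,1,0,2,0,1,0,2,0,2,0,1], [2,0], false, 9, 52⟩))) (.node 1 (.leaf ⟨3, [2], [2], false, 2, 0⟩) (.node 1 (.leaf ⟨3, [0], [0], false, 0, 0⟩) (.leaf ⟨3, [1], [1], false, 1, 0⟩))))
def rules : DTree Rule := rules0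
def sys : Sys := ⟨3, 0x18440, fx, rules⟩
def rels : List (List ℕ) := baseRels ++ [[0,1,0,1,0,2,0,1,0,1,0,2,0,1,0,1,0,2,0,1,0,1,0,2,0,1,0,1,0,2,0,1,0,1,0,2,0,1,0,1,0,2,0,1,0,2,0,2,0,1,0,1,0,2,0,1,0,2,0,2]]
def subs : List (List ℕ) := []

end Cfsg.Agent.J4Rep94.S1
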